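/-
Numbers of elements of a given order: `s G m`, the Frobenius congruences.
-/
import Mathlib
import Cfsg.Agent.Lib.Count.Frobenius
import Cfsg.Agent.Lib.Count.Subgroups

set_option autoImplicit false

namespace CfsgLib.Nse

open Subgroup

/-- the number of elements of order `m` -/
noncomputable def s (G : Type*) [Group G] (m : ℕ) : ℕ := Nat.card {g : G // orderOf g = m}

/-- the set of values of `s` -/
def vals (G : Type*) [Group G] : Set ℕ := s G '' Set.range (orderOf : G → ℕ)

variable {G : Type*} [Group G] [Finite G]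

theorem s_eq_ncard (m : ℕ) : s G m = {g : G | orderOf g = m}.ncard := rfl

theorem s_one : s G 1 = 1 := by
  rw [s_eq_ncard]
  have : {g : G | orderOf g = 1} = {1} := by ext; simp
  rw [this, Set.ncard_singleton]

theorem totient_dvd (m : ℕ) : m.totient ∣ s G m := by
  have := Count.ncard_orderOf_eq (G := G) m (fun _ => True)
  simp only [and_true] at this
  rw [s_eq_ncard, this]; exact Dvd.intro_left _ rfl

theorem s_eq_zero_iff {m : ℕ} : s G m = 0 ↔ ∀ g : G, orderOf g ≠ m := by
  rw [s_eq_ncard, Set.ncard_eq_zero]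
  simp [Set.eq_empty_iff_forall_notMem]

theorem s_ne_zero_iff {m : ℕ} : s G m ≠ 0 ↔ ∃ g : G, orderOf g = m := by
  rw [Ne, s_eq_zero_iff]; push Not; rfl

theorem s_mem_vals {m : ℕ} (h : s G m ≠ 0) : s G m ∈ vals G :=
  ⟨m, s_ne_zero_iff.mp h, rfl⟩

theorem one_mem_vals : 1 ∈ vals G := ⟨1, ⟨1, orderOf_one⟩, s_one⟩

theorem s_prime_ne_zero {p : ℕ} (hp : p.Prime) (h : p ∣ Nat.card G) : s G p ≠ 0 := by
  haveI := Fact.mk hp
  exact s_ne_zero_iff.mpr (exists_prime_orderOf_dvd_card' p h)

theorem sum_s {n : ℕ} (hn : n ≠ 0) : ∑ d ∈ n.divisors, s G d = {x : G | x ^ n = 1}.ncard := by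
  classical
  haveI := Fintype.ofFinite G
  have := sum_card_orderOf_eq_card_pow_eq_one (G := G) hn
  rw [Set.ncard_eq_toFinset_card', Set.toFinset_setOf, ← this]
  refine Finset.sum_congr rfl fun d _ => ?_
  rw [s_eq_ncard, Set.ncard_eq_toFinset_card', Set.toFinset_setOf]

theorem frob {n : ℕ} (hn : n ∣ Nat.card G) : n ∣ ∑ d ∈ n.divisors, s G d := by
  have h0 : n ≠ 0 := ne_zero_of_dvd_ne_zero Nat.card_pos.ne' hn
  rw [sum_s h0]; exact Count.frobenius_one hn

theorem sum_card : ∑ d ∈ (Nat.card G).divisors, s G d = Nat.card G := by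
  rw [sum_s Nat.card_pos.ne']
  have : {x : G | x ^ Nat.card G = 1} = Set.univ := by ext; simp
  rw [this, Set.ncard_univ]

theorem sum_divisors_coprime {m n : ℕ} (h : m.Coprime n) (f : ℕ → ℕ) :
    ∑ d ∈ (m * n).divisors, f d = ∑ a ∈ m.divisors, ∑ b ∈ n.divisors, f (a * b) := by
  rw [h.divisors_mul, Finset.sum_map, ← Finset.sum_product' (f := fun a b => f (a * b))]
  exact Finset.sum_attach (m.divisors ×ˢ n.divisors) (fun x => f (x.1 * x.2))

theorem sum_divisors_prime {p : ℕ} (hp : p.Prime) (f : ℕ → ℕ) :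
    ∑ d ∈ p.divisors, f d = f 1 + f p := by
  rw [hp.divisors, Finset.sum_pair hp.one_lt.ne]

theorem sum_divisors_four (f : ℕ → ℕ) : ∑ d ∈ (4 : ℕ).divisors, f d = f 1 + f 2 + f 4 := by
  rw [show (4 : ℕ).divisors = {1, 2, 4} by decide]
  simp [add_assoc]

theorem L_p {p : ℕ} (hp : p.Prime) (h : p ∣ Nat.card G) : p ∣ 1 + s G p := by
  have := frob h
  rwa [sum_divisors_prime hp, s_one] at this

theorem L_pq {p q : ℕ} (hp : p.Prime) (hq : q.Prime) (hne : p ≠ q) (h1 : p ∣ Nat.card G)
    (h2 : q ∣ Nat.card G) : p * q ∣ 1 + s G q + (s G p + s G (p * q)) := by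
  have hc : p.Coprime q := (Nat.coprime_primes hp hq).mpr hne
  have := frob (hc.mul_dvd_of_dvd_of_dvd h1 h2)
  rw [sum_divisors_coprime hc] at this
  simpa only [sum_divisors_prime hp, sum_divisors_prime hq, one_mul, mul_one, s_one] using this

/-- `s q + s (p q) ≡ 0 (mod p)` -/
theorem L_pq' {p q : ℕ} (hp : p.Prime) (hq : q.Prime) (hne : p ≠ q) (h1 : p ∣ Nat.card G)
    (h2 : q ∣ Nat.card G) : p ∣ s G q + s G (p * q) := by
  have h3 := (Dvd.intro _ rfl).trans (L_pq hp hq hne h1 h2)
  have h4 := L_p hp h1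
  have : 1 + s G q + (s G p + s G (p * q)) = (1 + s G p) + (s G q + s G (p * q)) := by ring
  rw [this] at h3
  exact (Nat.dvd_add_right h4).mp h3

theorem even_s {m : ℕ} (hm : 2 < m) : Even (s G m) :=
  (Nat.totient_even hm).trans_dvd (totient_dvd m)

/-- with a central involution `z` that is the only involution, `s (2 m) = s m` for odd `m` -/
theorem s_two_mul (h : s G 2 = 1) {m : ℕ} (hm : Odd m) : s G (2 * m) = s G m := by
  rw [s_eq_ncard, Set.ncard_eq_one] at h
  obtain ⟨z, hz⟩ := h
  have hz1 : ∀ g : G, orderOf g = 2 ↔ g = z := fun g => by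
    have := Set.ext_iff.mp hz g
    simpa using this
  have hz2 : orderOf z = 2 := (hz1 z).mpr rfl
  have hcomm : ∀ g : G, Commute g z := fun g => by
    have : orderOf (g * z * g⁻¹) = 2 := by
      rw [← hz2]; exact (MulAut.conj g).orderOf_eq z
    have h2 := (hz1 _).mp this
    rw [mul_inv_eq_iff_eq_mul] at h2
    exact h2
  have hzz : z * z = 1 := by rw [← pow_two, ← hz2, pow_orderOf_eq_one]
  have hc : Nat.Coprime m 2 := (Nat.coprime_two_right).mpr hm
  rw [s_eq_ncard, s_eq_ncard]
  symm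
  refine Set.ncard_congr (fun g _ => g * z) ?_ ?_ ?_
  · intro g hg
    have hg' : orderOf g = m := hg
    show orderOf (g * z) = 2 * m
    rw [(hcomm g).orderOf_mul_eq_mul_orderOf_of_coprime (by rw [hg', hz2]; exact hc), hg', hz2,
      mul_comm]
  · intro a b _ _ hab; exact mul_right_cancel hab
  · intro g hg
    have hg' : orderOf g = 2 * m := hg
    have hm0 : m ≠ 0 := by rintro rfl; simp at hm
    have h1 : orderOf (g ^ m) = 2 := by
      rw [orderOf_pow' _ hm0, hg', Nat.gcd_eq_right (Dvd.intro_left _ rfl),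
        Nat.mul_div_cancel _ (Nat.pos_of_ne_zero hm0)]
    have h2 := (hz1 _).mp h1
    refine ⟨g * z, ?_, by rw [mul_assoc, hzz, mul_one]⟩
    show orderOf (g * z) = m
    obtain ⟨k, hk⟩ := hm
    have h3 : g * z = (g ^ 2) ^ (k + 1) := by
      rw [← h2, ← pow_mul, ← pow_succ']; congr 1; omega
    have h4 : orderOf (g ^ 2) = m := by
      rw [orderOf_pow' _ two_ne_zero, hg', Nat.gcd_eq_right (Dvd.intro _ rfl),
        Nat.mul_div_cancel_left _ two_pos]
    rw [h3, Nat.Coprime.orderOf_pow, h4]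
    rw [h4]
    have : Nat.Coprime (2 * (k + 1)) m := by
      have : 2 * (k + 1) = m + 1 := by omega
      rw [this]; simp
    exact (Nat.Coprime.coprime_mul_left this).symm

/-- three values: after fixing one value `a ≠ 1` the values are `1, a, b` -/
theorem exists_third (h : (vals G).ncard = 3) {a : ℕ} (ha : a ∈ vals G) (ha1 : a ≠ 1) :
    ∃ b, b ≠ 1 ∧ b ≠ a ∧ b ∈ vals G ∧ ∀ m, s G m = 0 ∨ s G m = 1 ∨ s G m = a ∨ s G m = b := by
  obtain ⟨x, y, w, hxy, hxw, hyw, he⟩ := Set.ncard_eq_three.mp h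
  have h1 := one_mem_vals (G := G)
  have key : ∀ m, s G m = 0 ∨ s G m = x ∨ s G m = y ∨ s G m = w := fun m => by
    by_cases h0 : s G m = 0
    · exact Or.inl h0
    · have := s_mem_vals h0
      rw [he] at this
      exact Or.inr (by simpa using this)
  have hx : x ∈ vals G := by rw [he]; simp
  have hy : y ∈ vals G := by rw [he]; simp
  have hw : w ∈ vals G := by rw [he]; simp
  rw [he] at h1 ha
  simp only [Set.mem_insert_iff, Set.mem_singleton_iff] at h1 ha
  rcases h1 with rfl | rfl | rfl <;> rcases ha with rfl | rfl | rfl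
  · exact absurd rfl ha1
  · exact ⟨w, by omega, by omega, hw, fun m => by have := key m; omega⟩
  · exact ⟨y, by omega, by omega, hy, fun m => by have := key m; omega⟩
  · exact ⟨w, by omega, by omega, hw, fun m => by have := key m; omega⟩
  · exact absurd rfl ha1
  · exact ⟨x, by omega, by omega, hx, fun m => by have := key m; omega⟩
  · exact ⟨y, by omega, by omega, hy, fun m => by have := key m; omega⟩
  · exact ⟨x, by omega, by omega, hx, fun m => by have := key m; omega⟩
  · exact absurd rfl ha1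

end CfsgLib.Nse
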